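import Cfsg.Agent.OddHalf.D4.TwE.Core
import Cfsg.Agent.BabyU.Key
import Cfsg.Agent.TwoESix.GenSym
import Cfsg.Agent.TwoESix.GenTri
import Cfsg.Agent.TwoESix.KeyQuad
import Cfsg.Agent.TwoESix.RootsInst
import Cfsg.Agent.TwoESix.LeviG
import Cfsg.Agent.TwoESix.SheetMain
import Cfsg.Agent.KFacts.RgdLieCharP
import Cfsg.Agent.KFacts.RgdFiltTwAll
import Cfsg.Agent.OddHalf.D4.Spor.Row

-- merged: Cfsg.Agent.OddHalf.D4.TwE.Inst
section

/-!
# ODD half, D4: the sheet of `²E₆(2)`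
-/

set_option autoImplicit false

namespace Cfsg.Agent.OddHalf.D4.TwE.Inst

open Cfsg Cfsg.Lie Cfsg.Agent.TwoESix Cfsg.Agent.BabyU
open Cfsg.Agent.TwoESix.LeviA Cfsg.Agent.TwoESix.LongCard Cfsg.Agent.TwoESix.FlagH
open Cfsg.Agent.TwoESix.SheetA
open Cfsg.Agent.BabyU (rootClass)
open Cfsg.Agent.OddHalf.D4.TwE.Core
open Cfsg.Agent.OddHalf.D4.Spor (Cen)

universe u

variable {K : Type u} [Field K] [Fintype K]

/-- The facts `Extra` (any universe). -/
theorem extra_of (hF : Fintype.card K = 2 ^ 2) : Key.Extra hF (rootClass K) where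
  opp_trans r hr s hs r' hr' s' hs' h h' :=
    (ExtTwisted.basic K hF).opp_trans r hr s hs r' hr' s' hs' h.1 h.2 h'.1 h'.2
  spe := KeyExtra.spe hF
  odd := KeyExtra.odd hF
  ker := KeyExtra.ker hF
  quad := by
    obtain ⟨p, q, r, s, p', q', r', h1, h2, h3⟩ := KeyQuad.quad K hF
    exact ⟨p, q, r, s, p', q', r', h1, h2, h3⟩

section Four

variable {φ : K →+* K} (F : Four K φ)
include F

theorem r0_T : r0 F ∈ rootClass K := xe_T F 71 (by decide +kernel)

theorem cen_r0 : Cen (r0 F) := Spor.cen_z (SheetMain.sheet F).basic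

/-- root involutions are 2-central -/
theorem cen_root {y : ↥(twistedE6 K 2)} (hy : y ∈ rootClass K) : Cen y := by
  obtain ⟨k, hk⟩ := KeyExtra.exists_conj F hy
  exact Spor.cen_conj hk (cen_r0 F)

theorem aut_root (α : MulAut ↥(twistedE6 K 2)) : ∀ y ∈ rootClass K, α y ∈ rootClass K := fun y hy =>
  (Cfsg.Agent.TwoESix.ExtTwisted.auto K K F.card F.card α y).1 hy

/-- the generation property for `b ∈ R` -/
theorem gen_of {b : ↥(twistedE6 K 2)} (hb : b ∈ RE K) (hbb : b * b = 1) (hb1 : b ≠ 1) (hbT : b ∉ rootClass K)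
    (hw : b * r0 F ∉ rootClass K)
    (hg : ∀ x ∈ RE K, x * b = b * x → x ∈ Subgroup.closure
      ({y | y ∈ rootClass K ∧ y ∈ RE K ∧ y * b = b * y ∧ y * b ∉ rootClass K} ∪ {b, r0 F})) :
    Gen (RE K) (r0 F) (rootClass K) b where
  mem := hb
  sq := hbb
  ne := hb1
  nez := fun h => hbT (h ▸ r0_T F)
  zw := by
    rw [← (large F).comm_z b hb]
    exact hw
  gen := hg

/-- every involution which is not 2-central is conjugate to one with the generation property -/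
theorem exists_gen (w : ↥(twistedE6 K 2)) (hww : w * w = 1) (hw1 : w ≠ 1) (hwc : ¬ Cen w) :
    ∃ g : ↥(twistedE6 K 2), Gen (RE K) (r0 F) (rootClass K) (g * w * g⁻¹) := by
  have hF : Fintype.card K = 2 ^ 2 := F.card
  have hRF := LeviG.rootFacts (K := K) hF hF
  have hX := extra_of (K := K) hF
  have hroots := RootsInst.roots K F.card
  have hwT : w ∉ rootClass K := fun h => hwc (cen_root F h)
  have B := Cfsg.Agent.TwoESix.ExtTwisted.basic K F.card
  have key : ∀ (g b : ↥(twistedE6 K 2)), g * w * g⁻¹ = b → b * b = 1 ∧ b ≠ 1 ∧ b ∉ rootClass K := by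
    rintro g b rfl
    refine ⟨?_, ?_, ?_⟩
    · calc g * w * g⁻¹ * (g * w * g⁻¹) = g * (w * w) * g⁻¹ := by group
        _ = 1 := by rw [hww]; group
    · intro h
      apply hw1
      calc w = g⁻¹ * (g * w * g⁻¹) * g := by group
        _ = 1 := by rw [h]; group
    · intro h
      apply hwT
      have h1 := B.conj _ h g⁻¹
      have e : g⁻¹ * (g * w * g⁻¹) * g⁻¹⁻¹ = w := by group
      rwa [e] at h1
  rcases Key.key hRF hX w hww hw1 with h | ⟨p, q, h, e⟩ | ⟨p, q, r, h, e⟩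
  · exact absurd h hwT
  · obtain ⟨p0, q0, h0, hbR, hbw, hgen⟩ := GenSym.good_sym F
    obtain ⟨g, e1, e2⟩ := hroots.sym p h.1 q h.2.1 p0 h0.1 q0 h0.2.1 h.2.2.1 h.2.2.2.1 h.2.2.2.2
      h0.2.2.1 h0.2.2.2.1 h0.2.2.2.2
    have e3 : g * w * g⁻¹ = p0 * q0 := by
      rw [e, ← e1, ← e2]; group
    obtain ⟨k1, k2, k3⟩ := key g _ e3
    refine ⟨g, ?_⟩
    rw [e3]
    exact gen_of F hbR k1 k2 k3 hbw hgen
  · obtain ⟨p0, q0, r0', h0, hbR, hbw, hgen⟩ := GenTri.good_tri F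
    obtain ⟨g, e1, e2, e3⟩ := Key.tri_conj hRF hX h h0
    have e4 : g * w * g⁻¹ = p0 * q0 * r0' := by
      rw [e, ← e1, ← e2, ← e3]; group
    obtain ⟨k1, k2, k3⟩ := key g _ e4
    refine ⟨g, ?_⟩
    rw [e4]
    exact gen_of F hbR k1 k2 k3 hbw hgen

theorem core [IsSimpleGroup ↥(twistedE6 K 2)] {a : ↥(twistedE6 K 2)} (ha : orderOf a = 2) : centralizerPPrimeCore 2 a = ⊥ := by
  have := F.charP
  have := finite_E (K := K)
  obtain ⟨p, -, -, q, -, -, h⟩ := R_non F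
  have hF : Fintype.card K = 2 ^ 2 := F.card
  refine (KFacts.RgdFiltTwAll.hasFilt_E6 (q := 2) Nat.prime_two.isPrimePow hF 2).core
    ⟨p, q, fun hc => r0_ne' F ?_⟩ ha
  rw [← h, commutatorElement_eq_one_iff_mul_comm]
  exact hc

/-- **The sheet of `²E₆(2)`.** -/
theorem sheet [IsSimpleGroup ↥(twistedE6 K 2)] : Spor.Sheet ↥(twistedE6 K 2) := by
  have := finite_E (K := K)
  exact Core.sheet (large F) (SheetMain.sheet F) (r0_T F) (fun α => aut_root F α)
    (fun w h1 h2 h3 => exists_gen F w h1 h2 h3) (fun a ha => core F ha)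

end Four

/-- **The sheet of a group isomorphic to `²E₆(2)`.** -/
theorem sheet_of_equiv {F' : Type*} [Field F'] [Fintype F'] (hF : Fintype.card F' = 4) {X : Type*} [Group X]
    [IsSimpleGroup X] (e : X ≃* ↥(twistedE6 F' 2)) : Spor.Sheet X := by
  obtain ⟨-, φ, F⟩ := exists_four F' hF
  have : IsSimpleGroup ↥(twistedE6 F' 2) := e.isSimpleGroup_congr.mp inferInstance
  exact (sheet F).of_equiv e.symm

end Cfsg.Agent.OddHalf.D4.TwE.Inst

end

-- merged: Cfsg.Agent.OddHalf.D4.TwE.Row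
section

/-!
# ODD half, D4: the row of `²E₆(2)`
-/

set_option autoImplicit false

namespace Cfsg.Agent.OddHalf.D4.TwE.Row

open Cfsg.Agent.OddHalf.D4

universe u

/-- **D4, the row of `²E₆(2)`.** -/
theorem e6t2 (h1173 : Start.P1173.{u}) (hFT : Spor.FTT.{u}) (hse : Spor.PSE.{u}) :
    Cut.Row1.{u} (fun K _ => Cut.E6t2 K) :=
  Spor.row_of_sheet h1173 hFT hse fun X _ _ _ hX => by
    obtain ⟨F, _, _, hF, ⟨e⟩⟩ := hX
    exact Inst.sheet_of_equiv hF e

end Cfsg.Agent.OddHalf.D4.TwE.Row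

end
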